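import Mathlib

/-!
The companion element of `SL₂` with trace `lam` has order dividing `q² - 1` when `lam² ≠ 4`.
-/

set_option autoImplicit false

namespace Cfsg.Agent.Lib.OmegaTwoGen49

open Matrix

variable {F : Type*} [Field F]

/-- The companion matrix of `X² - lam X + 1`. -/
def cmp (lam : F) : Matrix (Fin 2) (Fin 2) F := !![0, -1; 1, lam]

theorem lin_indep {lam a b c d : F} (h : a • cmp lam + b • 1 = c • cmp lam + d • (1 : Matrix (Fin 2) (Fin 2) F)) :
    a = c ∧ b = d := by
  have h1 := congrFun (congrFun h 1) 0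
  have h2 := congrFun (congrFun h 0) 0
  simp [cmp] at h1 h2
  exact ⟨h1, h2⟩

theorem cmp_sq (lam : F) : cmp lam * cmp lam = lam • cmp lam + (-1 : F) • 1 := by
  ext i j
  fin_cases i <;> fin_cases j <;> simp [cmp, Matrix.mul_apply, Fin.sum_univ_two] <;> ring

theorem pow_span {V : Type*} [AddCommGroup V] [Module F V] (lam : F) (T : V →ₗ[F] V) (v : V)
    (hv : T (T v) = lam • T v - v) :
    ∀ n : ℕ, ∃ a b : F, cmp lam ^ n = a • cmp lam + b • 1 ∧ (T ^ n) v = a • T v + b • v
  | 0 => ⟨0, 1, by simp, by simp⟩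
  | n + 1 => by
    obtain ⟨a, b, h1, h2⟩ := pow_span lam T v hv n
    refine ⟨a * lam + b, -a, ?_, ?_⟩
    · rw [pow_succ', h1, mul_add, Matrix.mul_smul, Matrix.mul_smul, cmp_sq, Matrix.mul_one]
      module
    · rw [pow_succ', Module.End.mul_apply, h2, map_add, map_smul, map_smul, hv]
      module

variable [Fintype F]

theorem cmp_pow (lam : F) (hl : lam ^ 2 ≠ 4) : cmp lam ^ (Fintype.card F ^ 2 - 1) = 1 := by
  classical
  obtain ⟨p, hp⟩ := CharP.exists F
  haveI := hp
  haveI hp' : Fact p.Prime := ⟨CharP.char_is_prime F p⟩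
  obtain ⟨n, -, hn⟩ := FiniteField.card F p
  set q := Fintype.card F
  have hfr : ∀ a b : F, (a • cmp lam + b • 1) ^ q = a • cmp lam ^ q + b • (1 : Matrix (Fin 2) (Fin 2) F) := by
    intro a b
    rw [hn, add_pow_char_pow_of_commute p (n : ℕ) ((Commute.one_right _).smul_right b), smul_pow,
      smul_pow, one_pow, ← hn, FiniteField.pow_card, FiniteField.pow_card]
  obtain ⟨a, b, hab, -⟩ := pow_span lam (0 : F →ₗ[F] F) 0 (by simp) q
  set M := cmp lam with hM
  have hrel : a * a * lam + 2 * a * b = lam * a ∧ b * b - a * a = lam * b - 1 := by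
    have h := congrArg (· ^ q) (cmp_sq lam)
    simp only [← hM] at h
    rw [(Commute.refl M).mul_pow, hfr, hab] at h
    rw [add_mul, mul_add, mul_add, smul_mul_smul, smul_mul_smul, smul_mul_smul, smul_mul_smul,
      Matrix.mul_one, Matrix.one_mul, mul_one, cmp_sq] at h
    have h' : (a * a * lam + 2 * a * b) • M + (b * b - a * a) • (1 : Matrix (Fin 2) (Fin 2) F) =
        (lam * a) • M + (lam * b - 1) • 1 := by
      rw [← hM] at h
      refine Eq.trans ?_ (h.trans ?_) <;> module
    exact lin_indep h'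
  obtain ⟨hA, hB⟩ := hrel
  have ha : a ≠ 0 := by
    intro ha
    subst ha
    have hN : (M + (-b) • 1) ^ q = 0 := by
      have := hfr 1 (-b)
      rw [one_smul, one_smul] at this
      rw [this, hab]
      module
    set c := lam - 2 * b
    have hN2 : (M + (-b) • 1) * (M + (-b) • 1) = c • (M + (-b) • 1) := by
      rw [add_mul, mul_add, mul_add, smul_mul_assoc, mul_smul_comm, smul_mul_smul, Matrix.mul_one,
        Matrix.one_mul, mul_one, cmp_sq, ← hM]
      have hb2 : b * b = lam * b - 1 := by linear_combination hB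
      rw [show (-b) * (-b) = lam * b - 1 by linear_combination hb2]
      match_scalars <;> first | ring1 | (simp only [c]; linear_combination -2 * hb2) | (simp only [c]; linear_combination hb2)
    have hNn : ∀ k : ℕ, (M + (-b) • 1) ^ (k + 1) = c ^ k • (M + (-b) • 1) := by
      intro k
      induction k with
      | zero => simp
      | succ k ih => rw [pow_succ, ih, smul_mul_assoc, hN2, smul_smul, ← pow_succ]
    have hc : c = 0 := by
      have h := hNn (q - 1)
      rw [Nat.sub_add_cancel (Fintype.card_pos), hN] at h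
      have h10 := congrFun (congrFun h 1) 0
      simp [M, cmp] at h10
      exact (pow_eq_zero_iff (by have := Fintype.one_lt_card (α := F); omega)).1 h10.symm
    apply hl
    simp only [c] at hc
    linear_combination (lam + 2 * b - 4 * b) * hc - 4 * hB
  have hb : a * lam + 2 * b = lam := mul_left_cancel₀ ha (by linear_combination hA)
  have ha1 : a ^ 2 = 1 ∧ (a + 1) * b = 0 := by
    by_cases h2 : (2 : F) = 0
    · have hlam : lam ≠ 0 := fun h => hl (by rw [h]; linear_combination -2 * h2)
      have e : a = 1 := mul_right_cancel₀ hlam (by linear_combination hb - b * h2)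
      subst e
      exact ⟨one_pow 2, by linear_combination b * h2⟩
    · have key : (1 - a ^ 2) * (4 - lam ^ 2) = 0 := by
        linear_combination 4 * hB + (lam + lam * a - 2 * b) * hb
      have h4 : (4 : F) - lam ^ 2 ≠ 0 := sub_ne_zero.2 (Ne.symm hl)
      have e2 : a ^ 2 = 1 := (sub_eq_zero.1 ((mul_eq_zero.1 key).resolve_right h4)).symm
      refine ⟨e2, ?_⟩
      have : 2 * ((a + 1) * b) = 0 := by linear_combination (a + 1) * hb - lam * e2
      exact (mul_eq_zero.1 this).resolve_left h2
  have hq2 : M ^ (q ^ 2) = M := by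
    rw [pow_two, pow_mul, hab, hfr, hab, smul_add, smul_smul, smul_smul]
    rw [show a * a = 1 by linear_combination ha1.1, one_smul, add_assoc, ← add_smul,
      show a * b + b = 0 by linear_combination ha1.2, zero_smul, add_zero]
  have hinv : M * (lam • 1 + (-1 : F) • M) = 1 := by
    rw [mul_add, Matrix.mul_smul, Matrix.mul_smul, Matrix.mul_one, hM, cmp_sq]
    module
  have hsucc : M ^ (q ^ 2 - 1) * M = M := by
    rw [← pow_succ, Nat.sub_add_cancel (Nat.one_le_pow _ _ Fintype.card_pos), hq2]
  calc M ^ (q ^ 2 - 1) = M ^ (q ^ 2 - 1) * (M * (lam • 1 + (-1 : F) • M)) := by rw [hinv, mul_one]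
    _ = 1 := by rw [← mul_assoc, hsucc, hinv]

/-- A map satisfying the quadratic relation on `v` returns `v` after `q² - 1` steps. -/
theorem pow_fix {V : Type*} [AddCommGroup V] [Module F V] {lam : F} (hl : lam ^ 2 ≠ 4)
    (T : V →ₗ[F] V) (v : V) (hv : T (T v) = lam • T v - v) :
    (T ^ (Fintype.card F ^ 2 - 1)) v = v := by
  obtain ⟨a, b, h1, h2⟩ := pow_span lam T v hv (Fintype.card F ^ 2 - 1)
  rw [cmp_pow lam hl] at h1
  obtain ⟨rfl, rfl⟩ := lin_indep (a := a) (b := b) (c := (0 : F)) (d := (1 : F)) (lam := lam)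
    (by rw [← h1]; module)
  rw [h2]; module

/-- A generator of the field as a ring, away from `±2`. -/
theorem exists_trace : ∃ lam : F, lam ^ 2 ≠ 4 ∧ ∀ A : Subring F, lam ∈ A → A = ⊤ := by
  classical
  obtain ⟨μ, hμ⟩ := IsCyclic.exists_generator (α := Fˣ)
  have hgen : ∀ A : Subring F, (μ : F) ∈ A → A = ⊤ := fun A hA => by
    refine eq_top_iff.2 fun x _ => ?_
    rcases eq_or_ne x 0 with rfl | hx
    · exact zero_mem A
    · obtain ⟨k, hk⟩ := (mem_powers_iff_mem_zpowers (x := μ) (y := Units.mk0 x hx)).2 (hμ _)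
      rw [show x = (μ : F) ^ k by simpa using (congrArg Units.val hk).symm]
      exact pow_mem hA k
  by_cases hμ4 : (μ : F) ^ 2 = 4
  swap
  · exact ⟨μ, hμ4, hgen⟩
  by_cases h2 : (2 : F) = 0
  · exfalso
    refine μ.ne_zero (pow_eq_zero_iff (n := 2) two_ne_zero |>.1 ?_)
    rw [hμ4]; linear_combination 2 * h2
  refine ⟨0, ?_, fun A _ => hgen A ?_⟩
  · rw [zero_pow two_ne_zero]
    intro e
    exact h2 (pow_eq_zero_iff (n := 2) two_ne_zero |>.1 (by rw [e]; norm_num))
  · have h : ((μ : F) - 2) * ((μ : F) + 2) = 0 := by linear_combination hμ4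
    have h2A : (2 : F) ∈ A := by rw [← one_add_one_eq_two]; exact add_mem (one_mem A) (one_mem A)
    rcases mul_eq_zero.1 h with h | h
    · rw [show (μ : F) = 2 by linear_combination h]; exact h2A
    · rw [show (μ : F) = -2 by linear_combination h]; exact neg_mem h2A

end Cfsg.Agent.Lib.OmegaTwoGen49
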