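import Cfsg.Agent.Lib.OrthOmega.Siegel
import Cfsg.Agent.Lib.OmegaTwoGen49.Mat2

/-!
Elements of `EG Q`: the companion element on two hyperbolic pairs and the swap of a pair with a
reflection.
-/

set_option autoImplicit false
set_option linter.unusedSectionVars false

namespace Cfsg.Agent.Lib.OmegaTwoGen49

open Module QuadraticMap Cfsg.Agent.Lib.Forms Cfsg.Agent.Lib.OrthOmega

variable {F : Type*} [Field F] {V : Type*} [AddCommGroup V] [Module F V] {Q : QuadraticForm F V}

/-- Two mutually orthogonal hyperbolic pairs `(a, a')`, `(b, b')`. -/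
structure Quad4 (Q : QuadraticForm F V) (a b a' b' : V) : Prop where
  qa : Q a = 0
  qb : Q b = 0
  qa' : Q a' = 0
  qb' : Q b' = 0
  aa' : polar Q a a' = 1
  bb' : polar Q b b' = 1
  ab : polar Q a b = 0
  ab' : polar Q a b' = 0
  a'b : polar Q a' b = 0
  a'b' : polar Q a' b' = 0

theorem Quad4.self {a b a' b' : V} (h : Quad4 Q a b a' b') :
    polar Q a a = 0 ∧ polar Q b b = 0 ∧ polar Q a' a' = 0 ∧ polar Q b' b' = 0 := by
  refine ⟨?_, ?_, ?_, ?_⟩ <;> rw [polar_self']
  · rw [h.qa, mul_zero]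
  · rw [h.qb, mul_zero]
  · rw [h.qa', mul_zero]
  · rw [h.qb', mul_zero]

theorem Quad4.symm {a b a' b' : V} (h : Quad4 Q a b a' b') :
    polar Q a' a = 1 ∧ polar Q b' b = 1 ∧ polar Q b a = 0 ∧ polar Q b' a = 0 ∧ polar Q b a' = 0 ∧
      polar Q b' a' = 0 := by
  refine ⟨?_, ?_, ?_, ?_, ?_, ?_⟩ <;> rw [polar_comm]
  exacts [h.aa', h.bb', h.ab, h.ab', h.a'b, h.a'b']

/-- The companion element with trace `lam`. -/
theorem exists_y {a b a' b' : V} (h : Quad4 Q a b a' b') (lam : F) :
    ∃ y ∈ EG Q, y.1 a = b ∧ y.1 b = lam • b - a ∧ y.1 a' = lam • a' + b' ∧ y.1 b' = -a' ∧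
      ∀ x, polar Q a x = 0 → polar Q b x = 0 → polar Q a' x = 0 → polar Q b' x = 0 → y.1 x = x := by
  obtain ⟨saa, sbb, sa'a', sb'b'⟩ := h.self
  obtain ⟨a'a, b'b, ba, b'a, ba', b'a'⟩ := h.symm
  have hX : ∀ t : F, SPair Q a (t • b') := fun t => ⟨h.qa, by rw [polar_smul_right, h.ab', smul_zero]⟩
  have hY : ∀ t : F, SPair Q b (t • a') := fun t => ⟨h.qb, by rw [polar_smul_right, ba', smul_zero]⟩
  refine ⟨rho (hX 1) * rho (hY (-1)) * rho (hX (1 - lam)),
    mul_mem (mul_mem (rho_mem _) (rho_mem _)) (rho_mem _), ?_, ?_, ?_, ?_, fun x h1 h2 h3 h4 => ?_⟩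
  case refine_5 =>
    rw [orth_mul_apply, orth_mul_apply, rho_fix (hX _) h1 (by rw [polar_smul_left, h4, smul_zero]),
      rho_fix (hY _) h2 (by rw [polar_smul_left, h3, smul_zero]),
      rho_fix (hX _) h1 (by rw [polar_smul_left, h4, smul_zero])]
  all_goals
    simp only [orth_mul_apply, rho_apply, map_add, map_sub, map_smul, map_neg, polar_add_right,
      polar_sub_right, polar_smul_right, polar_smul_left, polar_neg_right, Q_smul, h.qa', h.qb',
      h.aa', h.bb', h.ab, h.ab', h.a'b, h.a'b', a'a, b'b, ba, b'a, ba', b'a', saa, sbb, sa'a',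
      sb'b', smul_eq_mul, mul_zero, zero_mul, add_zero, zero_add, sub_zero, mul_one, one_mul,
      zero_smul, neg_zero]
    module

/-- Swapping a hyperbolic pair while reflecting in `s`. -/
theorem exists_swap {e f s : V} (hp : HypPair Q e f) (hes : polar Q e s = 0) (hfs : polar Q f s = 0)
    (hs : Q s ≠ 0) :
    ∃ g ∈ EG Q, g.1 e = (-(Q s)⁻¹) • f ∧ g.1 f = (-Q s) • e ∧
      ∀ x, polar Q e x = 0 → polar Q f x = 0 → g.1 x = x - (polar Q s x / Q s) • s := by
  have hfe : polar Q f e = 1 := by rw [polar_comm]; exact hp.pol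
  have hse : polar Q s e = 0 := by rw [polar_comm]; exact hes
  have hsf : polar Q s f = 0 := by rw [polar_comm]; exact hfs
  have see : polar Q e e = 0 := by rw [polar_self', hp.left, mul_zero]
  have sff : polar Q f f = 0 := by rw [polar_self', hp.right, mul_zero]
  have sss : polar Q s s = 2 * Q s := polar_self' Q s
  have h1 : SPair Q e s := ⟨hp.left, hes⟩
  have h2 : SPair Q f ((Q s)⁻¹ • s) := ⟨hp.right, by rw [polar_smul_right, hfs, smul_zero]⟩
  refine ⟨rho h1 * rho h2 * rho h1, mul_mem (mul_mem (rho_mem _) (rho_mem _)) (rho_mem _), ?_, ?_,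
    fun x hxe hxf => ?_⟩
  case refine_3 =>
    simp only [orth_mul_apply, rho_apply, map_add, map_sub, map_smul, polar_add_right,
      polar_sub_right, polar_smul_right, polar_smul_left, Q_smul, hp.pol, hfe, hse, hsf, see, sff,
      sss, hes, hfs, hxe, hxf, smul_eq_mul, mul_zero, add_zero, zero_add, sub_zero,
      zero_smul]
    match_scalars <;> field_simp <;> ring
  all_goals
    simp only [orth_mul_apply, rho_apply, map_add, map_sub, map_smul, polar_add_right,
      polar_sub_right, polar_smul_right, polar_smul_left, Q_smul, hp.pol, hfe, hse, hsf, see, sff,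
      sss, hes, hfs, smul_eq_mul, mul_zero, add_zero, zero_add, sub_zero,
      zero_smul]
    match_scalars <;> field_simp <;> ring

end Cfsg.Agent.Lib.OmegaTwoGen49
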