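import Cfsg.Agent.Lib.ChevClassical.Siegel
import Cfsg.Agent.Lib.OmegaTwoGen49.Elts

/-!
`EG Q` is generated by two elements when `Q` has at least three cyclically indexed hyperbolic pairs
and a rest spanned by `r` and a reflected copy of `r`.
-/

set_option autoImplicit false
set_option linter.unusedSectionVars false

namespace Cfsg.Agent.Lib.OmegaTwoGen49

open Module QuadraticMap Cfsg.Agent.Lib.Forms Cfsg.Agent.Lib.OrthOmega Cfsg.Agent.Lib.ChevClassical

variable {F : Type*} [Field F] {V : Type*} [AddCommGroup V] [Module F V] {Q : QuadraticForm F V}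
variable {m : ℕ}

/-- The combinatorial data. -/
structure Data (Q : QuadraticForm F V) (m : ℕ) where
  v : ℕ → V
  r : V
  s : V
  per : ∀ k, v (k % (2 * m)) = v k
  sing : ∀ k, Q (v k) = 0
  gram : ∀ i j, polar Q (v i) (v j) = if (i + m) % (2 * m) = j % (2 * m) then 1 else 0
  rv : ∀ i, polar Q (v i) r = 0
  sv : ∀ i, polar Q (v i) s = 0
  hs : Q s ≠ 0
  nonorth : polar Q r (r - (polar Q s r / Q s) • s) ≠ 0 ∨ polar Q r r ≠ 0
  span : ∀ x, x ∈ Submodule.span F (Set.range v ∪ {r, r - (polar Q s r / Q s) • s})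

namespace Data

variable (D : Data Q m)

/-- The reflected copy of `r`. -/
def r' : V := D.r - (polar Q D.s D.r / Q D.s) • D.s

theorem v_congr {i j : ℕ} (h : i % (2 * m) = j % (2 * m)) : D.v i = D.v j := by
  rw [← D.per i, h, D.per]

theorem r'v (i : ℕ) : polar Q (D.v i) D.r' = 0 := by
  rw [r', polar_sub_right, polar_smul_right, D.rv, D.sv, smul_zero, sub_zero]

/-- The element reached from `r` after `k` steps. -/
def rr (k : ℕ) : V := if Even k then D.r else D.r'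

theorem rrv (i k : ℕ) : polar Q (D.v i) (D.rr k) = 0 := by
  rw [rr]; split_ifs
  exacts [D.rv i, D.r'v i]

theorem vv_one (k : ℕ) : polar Q (D.v k) (D.v (k + m)) = 1 := by rw [D.gram, if_pos rfl]

theorem vv_zero {i j : ℕ} (hi : i < 2 * m) (hj : j < 2 * m) (h : j ≠ i + m) (h' : i ≠ j + m) :
    polar Q (D.v i) (D.v j) = 0 := by
  rw [D.gram, if_neg]
  rw [Nat.mod_eq_of_lt hj]
  intro e
  rcases Nat.lt_or_ge (i + m) (2 * m) with hc | hc
  · rw [Nat.mod_eq_of_lt hc] at e; omega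
  · rw [Nat.mod_eq_sub_mod hc, Nat.mod_eq_of_lt (by omega)] at e; omega

theorem quad4 {i j : ℕ} (hi : i < m) (hj : j < m) (hij : i ≠ j) :
    Quad4 Q (D.v i) (D.v j) (D.v (i + m)) (D.v (j + m)) :=
  ⟨D.sing _, D.sing _, D.sing _, D.sing _, D.vv_one i, D.vv_one j,
    D.vv_zero (by omega) (by omega) (by omega) (by omega),
    D.vv_zero (by omega) (by omega) (by omega) (by omega),
    D.vv_zero (by omega) (by omega) (by omega) (by omega),
    D.vv_zero (by omega) (by omega) (by omega) (by omega)⟩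

theorem exists_cycle : ∀ j, j < m → ∃ C ∈ EG Q,
    (∀ i, i < j → C.1 (D.v i) = D.v (i + 1) ∧ C.1 (D.v (i + m)) = D.v (i + 1 + m)) ∧
    (∃ ε : F, ε ≠ 0 ∧ C.1 (D.v j) = ε • D.v 0 ∧ C.1 (D.v (j + m)) = ε • D.v m) ∧
    (∀ i, j < i → i < m → C.1 (D.v i) = D.v i ∧ C.1 (D.v (i + m)) = D.v (i + m)) ∧
    ∀ x, (∀ i, polar Q (D.v i) x = 0) → C.1 x = x
  | 0, _ => ⟨1, one_mem _, fun i hi => absurd hi (Nat.not_lt_zero i),
      ⟨1, one_ne_zero, by simp, by simp⟩, fun i _ _ => ⟨rfl, rfl⟩, fun x _ => rfl⟩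
  | j + 1, hj => by
    obtain ⟨C, hC, h1, ⟨ε, hε, hj1, hj2⟩, h3, h4⟩ := exists_cycle j (by omega)
    obtain ⟨n, hn, na, nb, na', nb', nfix⟩ :=
      exists_y (D.quad4 (i := j) (j := j + 1) (by omega) hj (by omega)) (0 : F)
    rw [zero_smul, zero_sub] at nb
    rw [zero_smul, zero_add] at na'
    have nfix' : ∀ i, i < m → i ≠ j → i ≠ j + 1 →
        n.1 (D.v i) = D.v i ∧ n.1 (D.v (i + m)) = D.v (i + m) := fun i hi h1' h2' =>
      ⟨nfix _ (D.vv_zero (by omega) (by omega) (by omega) (by omega))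
        (D.vv_zero (by omega) (by omega) (by omega) (by omega))
        (D.vv_zero (by omega) (by omega) (by omega) (by omega))
        (D.vv_zero (by omega) (by omega) (by omega) (by omega)),
      nfix _ (D.vv_zero (by omega) (by omega) (by omega) (by omega))
        (D.vv_zero (by omega) (by omega) (by omega) (by omega))
        (D.vv_zero (by omega) (by omega) (by omega) (by omega))
        (D.vv_zero (by omega) (by omega) (by omega) (by omega))⟩
    refine ⟨C * n, mul_mem hC hn, fun i hi => ?_, ⟨-ε, neg_ne_zero.2 hε, ?_, ?_⟩, fun i hi1 hi2 => ?_,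
      fun x hx => ?_⟩
    · rcases eq_or_ne i j with rfl | hij
      · rw [orth_mul_apply, orth_mul_apply, na, na']
        exact h3 (i + 1) (by omega) hj
      · obtain ⟨e1, e2⟩ := nfix' i (by omega) hij (by omega)
        rw [orth_mul_apply, orth_mul_apply, e1, e2]
        exact h1 i (by omega)
    · rw [orth_mul_apply, nb, map_neg, hj1, neg_smul]
    · rw [orth_mul_apply, nb', map_neg, hj2, neg_smul]
    · obtain ⟨e1, e2⟩ := nfix' i hi2 (by omega) (by omega)
      rw [orth_mul_apply, orth_mul_apply, e1, e2]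
      exact h3 i (by omega) hi2
    · rw [orth_mul_apply, nfix x (hx _) (hx _) (hx _) (hx _), h4 x hx]

theorem exists_w (hm : 1 ≤ m) : ∃ w ∈ EG Q, ∃ a : ℕ → F, (∀ k, a k ≠ 0) ∧
    (∀ k, w.1 (D.v k) = a k • D.v (k + 1)) ∧ w.1 D.r = D.r' ∧ w.1 D.r' = D.r := by
  obtain ⟨C, hC, h1, ⟨ε, hε, hj1, hj2⟩, -, h4⟩ := D.exists_cycle (m - 1) (by omega)
  have hp : HypPair Q (D.v 0) (D.v m) := ⟨D.sing _, D.sing _, by simpa using D.vv_one 0⟩
  obtain ⟨N, hN, Ne, Nf, Nfix⟩ := exists_swap hp (D.sv 0) (D.sv m) D.hs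
  have hsv : ∀ i, polar Q D.s (D.v i) = 0 := fun i => by rw [polar_comm]; exact D.sv i
  have Nv : ∀ i, i < 2 * m → i ≠ 0 → i ≠ m → N.1 (D.v i) = D.v i := fun i hi h0 hm' => by
    rw [Nfix _ (D.vv_zero (by omega) hi (by omega) (by omega))
      (D.vv_zero (by omega) hi (by omega) (by omega)), hsv, zero_div, zero_smul, sub_zero]
  have hr : (N * C).1 D.r = D.r' := by
    rw [orth_mul_apply, h4 _ D.rv, Nfix _ (D.rv 0) (D.rv m)]
    rfl
  have hr' : (N * C).1 D.r' = D.r := by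
    rw [orth_mul_apply, h4 _ D.r'v, Nfix _ (D.r'v 0) (D.r'v m), r', polar_sub_right, polar_smul_right,
      polar_self', smul_eq_mul]
    have := D.hs
    match_scalars <;> field_simp <;> ring
  have key : ∀ i, i < 2 * m → ∃ a : F, a ≠ 0 ∧ (N * C).1 (D.v i) = a • D.v (i + 1) := by
    intro i hi
    rw [orth_mul_apply]
    by_cases h : i < m
    · rcases Nat.lt_or_ge i (m - 1) with hlt | hge
      · refine ⟨1, one_ne_zero, ?_⟩
        rw [(h1 i hlt).1, Nv (i + 1) (by omega) (by omega) (by omega), one_smul]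
      · obtain rfl : i = m - 1 := by omega
        refine ⟨ε * -(Q D.s)⁻¹, mul_ne_zero hε (neg_ne_zero.2 (inv_ne_zero D.hs)), ?_⟩
        rw [hj1, map_smul, Ne, smul_smul, show m - 1 + 1 = m by omega]
    · obtain ⟨i, rfl⟩ : ∃ l, i = l + m := ⟨i - m, by omega⟩
      rcases Nat.lt_or_ge i (m - 1) with hlt | hge
      · refine ⟨1, one_ne_zero, ?_⟩
        rw [(h1 i hlt).2, Nv (i + 1 + m) (by omega) (by omega) (by omega), one_smul,
          show i + m + 1 = i + 1 + m by ring]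
      · obtain rfl : i = m - 1 := by omega
        refine ⟨ε * -Q D.s, mul_ne_zero hε (neg_ne_zero.2 D.hs), ?_⟩
        rw [hj2, map_smul, Nf, smul_smul]
        congr 1
        exact D.v_congr (by rw [show m - 1 + m + 1 = 2 * m by omega]; simp)
  have key' : ∀ k, ∃ a : F, a ≠ 0 ∧ (N * C).1 (D.v k) = a • D.v (k + 1) := fun k => by
    obtain ⟨a, ha, e⟩ := key (k % (2 * m)) (Nat.mod_lt _ (by omega))
    exact ⟨a, ha, by rw [← D.per k, e, D.v_congr (Nat.mod_add_mod k (2 * m) 1)]⟩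
  choose a ha hw using key'
  exact ⟨N * C, mul_mem hN hC, a, ha, hw, hr, hr'⟩

theorem pow_shift {w : orth Q} {a : ℕ → F} (hw : ∀ k, w.1 (D.v k) = a k • D.v (k + 1))
    (ha : ∀ k, a k ≠ 0) (hr : w.1 D.r = D.r') (hr' : w.1 D.r' = D.r) :
    ∀ j, (∀ k, ∃ b : F, b ≠ 0 ∧ (w ^ j).1 (D.v k) = b • D.v (k + j)) ∧ (w ^ j).1 D.r = D.rr j
  | 0 => ⟨fun k => ⟨1, one_ne_zero, by simp⟩, by simp [rr]⟩
  | j + 1 => by
    obtain ⟨h1, h2⟩ := pow_shift hw ha hr hr' j
    refine ⟨fun k => ?_, ?_⟩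
    · obtain ⟨b, hb, e⟩ := h1 k
      refine ⟨b * a (k + j), mul_ne_zero hb (ha _), ?_⟩
      rw [pow_succ', orth_mul_apply, e, map_smul, hw, smul_smul, Nat.add_assoc]
    · rw [pow_succ', orth_mul_apply, h2, rr, rr]
      by_cases he : Even j
      · rw [if_pos he, if_neg (fun h => (Nat.even_add_one.1 h) he), hr]
      · rw [if_neg he, if_pos (Nat.even_add_one.2 he), hr']

/-- The vectors whose Siegel transformation at `v 0` lies in `K`. -/
def S (K : Subgroup (orth Q)) (u : V) : Prop := ∃ h : SPair Q (D.v 0) u, rho h ∈ K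

variable {K : Subgroup (orth Q)}

theorem S_zero : D.S K 0 := ⟨SPair.zero (D.sing 0), by rw [rho_zero]; exact one_mem K⟩

theorem S_add {u u' : V} (h : D.S K u) (h' : D.S K u') : D.S K (u + u') := by
  obtain ⟨hu, hk⟩ := h
  obtain ⟨hu', hk'⟩ := h'
  exact ⟨hu.add hu', by rw [← rho_mul hu hu']; exact mul_mem hk hk'⟩

theorem S_neg {u : V} (h : D.S K u) : D.S K (-u) := by
  obtain ⟨hu, hk⟩ := h
  exact ⟨hu.neg, by rw [← rho_inv hu]; exact inv_mem hk⟩

theorem S_sub {u u' : V} (h : D.S K u) (h' : D.S K u') : D.S K (u - u') := by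
  rw [sub_eq_add_neg]; exact D.S_add h (D.S_neg h')

theorem S_conj {u : V} (h : D.S K u) {g : orth Q} (hg : g ∈ K) (hg0 : g.1 (D.v 0) = D.v 0) :
    D.S K (g.1 u) := by
  obtain ⟨hu, hk⟩ := h
  have hp : SPair Q (D.v 0) (g.1 u) := by
    have := hu.map g
    rwa [hg0] at this
  refine ⟨hp, ?_⟩
  rw [← rho_congr (hu.map g) hp hg0 rfl, ← rho_conj g hu]
  exact mul_mem (mul_mem hg hk) (inv_mem hg)

theorem inv_fix {g : orth Q} {x : V} (h : g.1 x = x) : g⁻¹.1 x = x := by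
  conv_lhs => rw [← h]
  rw [orth_inv_apply_apply]

/-- One scalar multiple gives all, along a vector moved quadratically by an element fixing `v 0`. -/
theorem S_all {lam : F} (hgen : ∀ A : Subring F, lam ∈ A → A = ⊤) {g : orth Q} (hg : g ∈ K)
    (hg0 : g.1 (D.v 0) = D.v 0) {z : V} (hz : g.1 (g.1 z) = lam • g.1 z - z) {c₀ : F} (hc₀ : c₀ ≠ 0)
    (h : D.S K (c₀ • z)) : ∀ c : F, D.S K (c • z) := by
  let T : AddSubgroup F :=
    { carrier := {c | D.S K (c • z)}
      zero_mem' := by show D.S K ((0 : F) • z); rw [zero_smul]; exact D.S_zero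
      add_mem' := fun {a b} ha hb => by
        show D.S K ((a + b) • z); rw [add_smul]; exact D.S_add ha hb
      neg_mem' := fun {a} ha => by show D.S K ((-a) • z); rw [neg_smul]; exact D.S_neg ha }
  let R : Subring F :=
    { carrier := {c | ∀ a ∈ T, c * a ∈ T}
      mul_mem' := fun {a c} ha hc x hx => by rw [mul_assoc]; exact ha _ (hc x hx)
      one_mem' := fun x hx => by rwa [one_mul]
      add_mem' := fun {a c} ha hc x hx => by rw [add_mul]; exact add_mem (ha x hx) (hc x hx)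
      zero_mem' := fun x _ => by rw [zero_mul]; exact zero_mem T
      neg_mem' := fun {a} ha x hx => by rw [neg_mul]; exact neg_mem (ha x hx) }
  have hginv : g⁻¹.1 z = lam • z - g.1 z := by
    apply g.1.injective
    rw [orth_apply_inv_apply, map_sub, map_smul, hz]
    abel
  have hR : R = ⊤ := hgen R (by
    intro a (ha : D.S K (a • z))
    show D.S K ((lam * a) • z)
    have := D.S_add (D.S_conj ha hg hg0) (D.S_conj ha (inv_mem hg) (inv_fix hg0))
    rw [map_smul, map_smul, hginv] at this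
    convert this using 1
    module)
  intro c
  have h2 := (hR ▸ Subring.mem_top (c / c₀) : c / c₀ ∈ R) c₀ h
  rwa [div_mul_cancel₀ _ hc₀] at h2

section

variable {lam : F} {y w : orth Q} {a : ℕ → F}

theorem shifted_y (hm : 3 ≤ m) (hy1 : y.1 (D.v 1) = D.v 2) (hy2 : y.1 (D.v 2) = lam • D.v 2 - D.v 1)
    (hy3 : y.1 (D.v (1 + m)) = lam • D.v (1 + m) + D.v (2 + m))
    (hy4 : y.1 (D.v (2 + m)) = -D.v (1 + m))
    (hyfix : ∀ x, polar Q (D.v 1) x = 0 → polar Q (D.v 2) x = 0 → polar Q (D.v (1 + m)) x = 0 →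
      polar Q (D.v (2 + m)) x = 0 → y.1 x = x)
    (hyK : y ∈ K) (hwK : w ∈ K) (hw : ∀ k, w.1 (D.v k) = a k • D.v (k + 1)) (ha : ∀ k, a k ≠ 0)
    (hr : w.1 D.r = D.r') (hr' : w.1 D.r' = D.r)
    (k p : ℕ) (hpk : (p + k) % (2 * m) = 0) (hp : p < 2 * m) (h1 : p ≠ 1) (h2 : p ≠ 2)
    (h3 : p ≠ 1 + m) (h4 : p ≠ 2 + m) :
    ∃ g ∈ K, g.1 (D.v 0) = D.v 0 ∧
      g.1 (g.1 (D.v (1 + k))) = lam • g.1 (D.v (1 + k)) - D.v (1 + k) ∧
      g.1 (g.1 (D.v (2 + k))) = lam • g.1 (D.v (2 + k)) - D.v (2 + k) ∧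
      ∃ b : F, b ≠ 0 ∧ g.1 (D.v (1 + k)) = b • D.v (2 + k) := by
  obtain ⟨hW, -⟩ := D.pow_shift hw ha hr hr' k
  set W := w ^ k
  have hWK : W ∈ K := pow_mem hwK k
  have hg : ∀ x, (W * y * W⁻¹).1 (W.1 x) = W.1 (y.1 x) := fun x => by
    rw [orth_mul_apply, orth_mul_apply, orth_inv_apply_apply]
  have hsc : ∀ (b : F) (x z : V), b ≠ 0 → W.1 x = b • z → z = W.1 (b⁻¹ • x) := fun b x z hb e => by
    rw [map_smul, e, smul_smul, inv_mul_cancel₀ hb, one_smul]
  have hrel : ∀ x, y.1 (y.1 x) = lam • y.1 x - x → ∀ c : F,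
      (W * y * W⁻¹).1 ((W * y * W⁻¹).1 (W.1 (c • x))) =
        lam • (W * y * W⁻¹).1 (W.1 (c • x)) - W.1 (c • x) := fun x hx c => by
    rw [hg, hg, ← map_smul, ← map_sub, map_smul, map_smul, hx]
    congr 1
    module
  refine ⟨W * y * W⁻¹, mul_mem (mul_mem hWK hyK) (inv_mem hWK), ?_, ?_, ?_, ?_⟩
  · obtain ⟨b, hb, e⟩ := hW p
    rw [D.v_congr (show (p + k) % (2 * m) = 0 % (2 * m) by rw [hpk, Nat.zero_mod])] at e
    rw [hsc b _ _ hb e, hg, map_smul y.1, hyfix (D.v p)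
      (D.vv_zero (by omega) hp (by omega) (by omega)) (D.vv_zero (by omega) hp (by omega) (by omega))
      (D.vv_zero (by omega) hp (by omega) (by omega)) (D.vv_zero (by omega) hp (by omega) (by omega))]
  · obtain ⟨b, hb, e⟩ := hW 1
    rw [hsc b _ _ hb e]
    exact hrel _ (by rw [hy1, hy2]) b⁻¹
  · obtain ⟨b, hb, e⟩ := hW 2
    rw [hsc b _ _ hb e]
    exact hrel _ (by rw [hy2, map_sub, map_smul, hy2, hy1]) b⁻¹
  · obtain ⟨b, hb, e⟩ := hW 1
    obtain ⟨b', hb', e'⟩ := hW 2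
    refine ⟨b⁻¹ * b', mul_ne_zero (inv_ne_zero hb) hb', ?_⟩
    rw [hsc b _ _ hb e, hg, map_smul, hy1, map_smul, e', smul_smul]

end

end Data

end Cfsg.Agent.Lib.OmegaTwoGen49
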