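import Cfsg.Agent.Lib.OmegaTwoGen49.Core

/-!
From the companion element, the shift and one Siegel element to all of `EG Q`.
-/

set_option autoImplicit false
set_option linter.unusedSectionVars false

namespace Cfsg.Agent.Lib.OmegaTwoGen49

open Module QuadraticMap Cfsg.Agent.Lib.Forms Cfsg.Agent.Lib.OrthOmega Cfsg.Agent.Lib.ChevClassical

variable {F : Type*} [Field F] {V : Type*} [AddCommGroup V] [Module F V] {Q : QuadraticForm F V}
variable {m : ℕ}

namespace Data

variable (D : Data Q m) {K : Subgroup (orth Q)}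

theorem r_SPair : SPair Q (D.v 0) D.r := ⟨D.sing 0, D.rv 0⟩

theorem top (hm : 3 ≤ m) (hrad : ∀ x, Q x = 0 → x ≠ 0 → ∃ y, polar Q x y ≠ 0)
    {lam : F} {y w : orth Q} {a : ℕ → F} (hgen : ∀ A : Subring F, lam ∈ A → A = ⊤)
    (hy1 : y.1 (D.v 1) = D.v 2) (hy2 : y.1 (D.v 2) = lam • D.v 2 - D.v 1)
    (hy3 : y.1 (D.v (1 + m)) = lam • D.v (1 + m) + D.v (2 + m))
    (hy4 : y.1 (D.v (2 + m)) = -D.v (1 + m))
    (hyfix : ∀ x, polar Q (D.v 1) x = 0 → polar Q (D.v 2) x = 0 → polar Q (D.v (1 + m)) x = 0 →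
      polar Q (D.v (2 + m)) x = 0 → y.1 x = x)
    (hxK : rho D.r_SPair ∈ K) (hyK : y ∈ K) (hwK : w ∈ K)
    (hw : ∀ k, w.1 (D.v k) = a k • D.v (k + 1)) (ha : ∀ k, a k ≠ 0)
    (hr : w.1 D.r = D.r') (hr' : w.1 D.r' = D.r) : EG Q ≤ K := by
  have hsh := D.shifted_y hm hy1 hy2 hy3 hy4 hyfix hyK hwK hw ha hr hr'
  have zero_mod : ∀ j, (2 * m + j) % (2 * m) = j % (2 * m) := fun j => Nat.add_mod_left _ _
  -- scalars
  have hall : ∀ j, j < 2 * m → j ≠ 0 → j ≠ m → ∀ c₀ : F, c₀ ≠ 0 → D.S K (c₀ • D.v j) →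
      ∀ c : F, D.S K (c • D.v j) := by
    intro j hj hj0 hjm c₀ hc₀ hS
    by_cases h1 : j = m - 1 ∨ j = 2 * m - 1
    · obtain ⟨g, hg, hg0, -, hz, -⟩ := hsh (j + 2 * m - 2) ((2 + 2 * m - j) % (2 * m))
        (by rw [Nat.mod_add_mod, show 2 + 2 * m - j + (j + 2 * m - 2) = 2 * m + 2 * m by omega]; simp)
        (Nat.mod_lt _ (by omega))
        (by rcases h1 with rfl | rfl
            · rw [show 2 + 2 * m - (m - 1) = m + 3 by omega]
              rcases Nat.lt_or_ge (m + 3) (2 * m) with h | h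
              · rw [Nat.mod_eq_of_lt h]; omega
              · rw [show m + 3 = 2 * m by omega, Nat.mod_self]; omega
            · rw [show 2 + 2 * m - (2 * m - 1) = 3 by omega, Nat.mod_eq_of_lt (by omega)]; omega)
        (by rcases h1 with rfl | rfl
            · rw [show 2 + 2 * m - (m - 1) = m + 3 by omega]
              rcases Nat.lt_or_ge (m + 3) (2 * m) with h | h
              · rw [Nat.mod_eq_of_lt h]; omega
              · rw [show m + 3 = 2 * m by omega, Nat.mod_self]; omega
            · rw [show 2 + 2 * m - (2 * m - 1) = 3 by omega, Nat.mod_eq_of_lt (by omega)]; omega)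
        (by rcases h1 with rfl | rfl
            · rw [show 2 + 2 * m - (m - 1) = m + 3 by omega]
              rcases Nat.lt_or_ge (m + 3) (2 * m) with h | h
              · rw [Nat.mod_eq_of_lt h]; omega
              · rw [show m + 3 = 2 * m by omega, Nat.mod_self]; omega
            · rw [show 2 + 2 * m - (2 * m - 1) = 3 by omega, Nat.mod_eq_of_lt (by omega)]; omega)
        (by rcases h1 with rfl | rfl
            · rw [show 2 + 2 * m - (m - 1) = m + 3 by omega]
              rcases Nat.lt_or_ge (m + 3) (2 * m) with h | h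
              · rw [Nat.mod_eq_of_lt h]; omega
              · rw [show m + 3 = 2 * m by omega, Nat.mod_self]; omega
            · rw [show 2 + 2 * m - (2 * m - 1) = 3 by omega, Nat.mod_eq_of_lt (by omega)]; omega)
      rw [D.v_congr (show (2 + (j + 2 * m - 2)) % (2 * m) = j % (2 * m) by
        rw [show 2 + (j + 2 * m - 2) = 2 * m + j by omega, zero_mod])] at hz
      exact D.S_all hgen hg hg0 hz hc₀ hS
    · push Not at h1
      have hp : (1 + 2 * m - j) % (2 * m) = if j = 1 then 0 else 1 + 2 * m - j := by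
        split_ifs with h
        · rw [h, Nat.add_sub_cancel_left, Nat.mod_self]
        · exact Nat.mod_eq_of_lt (by omega)
      obtain ⟨g, hg, hg0, hz, -, -⟩ := hsh (j + 2 * m - 1) ((1 + 2 * m - j) % (2 * m))
        (by rw [Nat.mod_add_mod, show 1 + 2 * m - j + (j + 2 * m - 1) = 2 * m + 2 * m by omega]; simp)
        (Nat.mod_lt _ (by omega))
        (by rw [hp]; split_ifs <;> omega) (by rw [hp]; split_ifs <;> omega)
        (by rw [hp]; split_ifs <;> omega) (by rw [hp]; split_ifs <;> omega)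
      rw [D.v_congr (show (1 + (j + 2 * m - 1)) % (2 * m) = j % (2 * m) by
        rw [show 1 + (j + 2 * m - 1) = 2 * m + j by omega, zero_mod])] at hz
      exact D.S_all hgen hg hg0 hz hc₀ hS
  -- adjacency
  have hadj : ∀ j, 1 ≤ j → j + 1 < 2 * m → j ≠ m → j + 1 ≠ m →
      ((∀ c : F, D.S K (c • D.v j)) ↔ ∀ c : F, D.S K (c • D.v (j + 1))) := by
    intro j hj1 hj hjm hjm'
    have hp : (1 + 2 * m - j) % (2 * m) = if j = 1 then 0 else 1 + 2 * m - j := by
      split_ifs with h
      · rw [h, Nat.add_sub_cancel_left, Nat.mod_self]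
      · exact Nat.mod_eq_of_lt (by omega)
    obtain ⟨g, hg, hg0, -, -, b, hb, hgv⟩ := hsh (j + 2 * m - 1) ((1 + 2 * m - j) % (2 * m))
      (by rw [Nat.mod_add_mod, show 1 + 2 * m - j + (j + 2 * m - 1) = 2 * m + 2 * m by omega]; simp)
      (Nat.mod_lt _ (by omega))
      (by rw [hp]; split_ifs <;> omega) (by rw [hp]; split_ifs <;> omega)
      (by rw [hp]; split_ifs <;> omega) (by rw [hp]; split_ifs <;> omega)
    rw [D.v_congr (show (1 + (j + 2 * m - 1)) % (2 * m) = j % (2 * m) by
        rw [show 1 + (j + 2 * m - 1) = 2 * m + j by omega, zero_mod]),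
      D.v_congr (show (2 + (j + 2 * m - 1)) % (2 * m) = (j + 1) % (2 * m) by
        rw [show 2 + (j + 2 * m - 1) = 2 * m + (j + 1) by omega, zero_mod])] at hgv
    constructor
    · intro h c
      have h1 := D.S_conj (h (c / b)) hg hg0
      rwa [map_smul, hgv, smul_smul, div_mul_cancel₀ _ hb] at h1
    · intro h c
      have h1 := D.S_conj (h (c * b)) (inv_mem hg) (inv_fix hg0)
      rw [← smul_smul, ← hgv, map_smul, orth_inv_apply_apply] at h1
      exact h1
  have hint : ∀ b0, (b0 = 0 ∨ b0 = m) → ∀ t, 1 ≤ t → t < m → (∀ c : F, D.S K (c • D.v (b0 + t))) →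
      ∀ t', 1 ≤ t' → t' < m → ∀ c : F, D.S K (c • D.v (b0 + t')) := by
    intro b0 hb0 t ht1 ht2 h
    have hb : ∀ t', 1 ≤ t' → t' + 1 < m → ((∀ c : F, D.S K (c • D.v (b0 + t'))) ↔
        ∀ c : F, D.S K (c • D.v (b0 + t' + 1))) := fun t' h1 h2 =>
      hadj (b0 + t') (by omega) (by omega) (by omega) (by omega)
    have h1 : ∀ t', 1 ≤ t' → t' < m → ((∀ c : F, D.S K (c • D.v (b0 + t'))) ↔
        ∀ c : F, D.S K (c • D.v (b0 + 1))) := by
      intro t' h1 h2
      induction t' with
      | zero => omega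
      | succ t' ih =>
        rcases Nat.eq_zero_or_pos t' with rfl | hpos
        · exact Iff.rfl
        · rw [← ih hpos (by omega), ← Nat.add_assoc]
          exact (hb t' hpos (by omega)).symm
    intro t' h1' h2'
    exact (h1 t' h1' h2').2 ((h1 t ht1 ht2).1 h)
  -- the shifted Siegel elements
  have hxk : ∀ k, k < 2 * m → k ≠ 0 → k ≠ m → ∃ g ∈ K, g.1 (D.v 0) = D.v 0 ∧ ∃ b : F, b ≠ 0 ∧
      (∀ x, polar Q (D.v k) x = 0 →
        g.1 x = x - (b * polar Q (D.rr k) x) • D.v k) ∧
      ∀ x, polar Q (D.v k) x = 1 → polar Q (D.rr k) x = 0 →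
        g.1 x = x + b • D.rr k - (b * b * Q (D.rr k)) • D.v k := by
    intro k hk hk0 hkm
    obtain ⟨hW, hWr⟩ := D.pow_shift hw ha hr hr' k
    obtain ⟨b, hb, e⟩ := hW 0
    rw [Nat.zero_add] at e
    have hp : SPair Q (D.v k) (b • D.rr k) :=
      ⟨D.sing k, by rw [polar_smul_right, D.rrv, smul_zero]⟩
    have hmem : rho hp ∈ K := by
      have hmap := D.r_SPair.map (w ^ k)
      have h1 : w ^ k * rho D.r_SPair * (w ^ k)⁻¹ ∈ K :=
        mul_mem (mul_mem (pow_mem hwK k) hxK) (inv_mem (pow_mem hwK k))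
      have h2 : SPair Q (b • D.v k) (D.rr k) :=
        ⟨by rw [Q_smul, D.sing, mul_zero], by rw [polar_smul_left, D.rrv, smul_zero]⟩
      rwa [rho_conj, rho_congr hmap h2 e hWr, rho_vec_smul h2 hp] at h1
    refine ⟨rho hp, hmem, ?_, b, hb, fun x hx => ?_, fun x hx hx' => ?_⟩
    · exact rho_fix hp (D.vv_zero hk (by omega) (by omega) (by omega))
        (by rw [polar_smul_left, polar_comm, D.rrv, smul_zero])
    · rw [rho_apply, hx, polar_smul_left, smul_eq_mul]
      simp
    · rw [rho_apply, hx, polar_smul_left, hx', smul_eq_mul, mul_zero, zero_add, mul_one, one_smul,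
        Q_smul]
  have hSr : D.S K D.r := ⟨D.r_SPair, hxK⟩
  obtain ⟨k₀, hk₀, hB⟩ : ∃ k₀, (k₀ = 1 ∨ k₀ = 2) ∧ polar Q (D.rr k₀) D.r ≠ 0 := by
    rcases D.nonorth with h | h
    · exact ⟨1, Or.inl rfl, by rw [rr, if_neg (by decide), polar_comm]; exact h⟩
    · exact ⟨2, Or.inr rfl, by rw [rr, if_pos (by decide)]; exact h⟩
  have hseed : ∀ k, k < 2 * m → k ≠ 0 → k ≠ m → D.rr k = D.rr k₀ → ∀ c : F, D.S K (c • D.v k) := by
    intro k hk hk0 hkm he
    obtain ⟨g, hg, hg0, b, hb, hgx, -⟩ := hxk k hk hk0 hkm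
    have h1 := D.S_sub hSr (D.S_conj hSr hg hg0)
    rw [hgx _ (D.rv k), sub_sub_cancel, he] at h1
    exact hall k hk hk0 hkm _ (mul_ne_zero hb hB) h1
  have hlow : ∀ t, 1 ≤ t → t < m → ∀ c : F, D.S K (c • D.v t) := by
    have h := hseed k₀ (by omega) (by omega) (by omega) rfl
    intro t h1 h2
    have := hint 0 (Or.inl rfl) k₀ (by omega) (by omega) (by rwa [Nat.zero_add]) t h1 h2
    rwa [Nat.zero_add] at this
  have hhigh : ∀ t, 1 ≤ t → t < m → ∀ c : F, D.S K (c • D.v (m + t)) := by
    obtain ⟨t₀, ht1, ht2, he⟩ : ∃ t₀, 1 ≤ t₀ ∧ t₀ ≤ 2 ∧ D.rr (m + t₀) = D.rr k₀ := by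
      rcases Nat.even_or_odd (m + k₀) with h | h
      · by_cases hk : Even k₀
        · refine ⟨k₀, by omega, by omega, ?_⟩
          simp only [rr, if_pos h, if_pos hk]
        · refine ⟨3 - k₀, by omega, by omega, ?_⟩
          have : ¬ Even (m + (3 - k₀)) := by
            intro h'
            rw [Nat.even_iff] at h h' hk
            omega
          simp only [rr, if_neg this, if_neg hk]
      · rw [← Nat.not_even_iff_odd] at h
        by_cases hk : Even k₀
        · refine ⟨3 - k₀, by omega, by omega, ?_⟩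
          have : Even (m + (3 - k₀)) := by
            rw [Nat.even_iff] at h hk ⊢
            omega
          simp only [rr, if_pos this, if_pos hk]
        · refine ⟨k₀, by omega, by omega, ?_⟩
          simp only [rr, if_neg h, if_neg hk]
    exact fun t => hint m (Or.inr rfl) t₀ ht1 (by omega)
      (hseed (m + t₀) (by omega) (by omega) (by omega) he) t
  have hv : ∀ j, j < 2 * m → j ≠ 0 → j ≠ m → ∀ c : F, D.S K (c • D.v j) := by
    intro j hj hj0 hjm
    rcases Nat.lt_or_ge j m with h | h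
    · exact hlow j (by omega) h
    · have := hhigh (j - m) (by omega) (by omega)
      rwa [Nat.add_sub_cancel' h] at this
  have hR : ∀ k, (k = 1 ∨ k = 2) → ∀ c : F, D.S K (c • D.rr k) := by
    intro k hk c
    obtain ⟨g, hg, hg0, b, hb, -, hgx⟩ := hxk k (by omega) (by omega) (by omega)
    have hk' := hhigh k (by omega) (by omega)
    have h1 := D.S_conj (hk' (c / b)) hg hg0
    rw [map_smul, hgx (D.v (m + k)) (by rw [Nat.add_comm]; exact D.vv_one k)
      (by rw [polar_comm]; exact D.rrv _ k)] at h1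
    have h2 := D.S_add (D.S_sub h1 (hk' (c / b))) (hv k (by omega) (by omega) (by omega) (c * b * Q (D.rr k)))
    convert h2 using 1
    match_scalars <;> field_simp <;> ring
  -- all vectors orthogonal to the first pair
  have hspan : ∀ u, ∀ c : F,
      D.S K (c • (u - polar Q u (D.v m) • D.v 0 - polar Q u (D.v 0) • D.v m)) := by
    intro u
    induction D.span u using Submodule.span_induction with
    | mem u hu =>
      have h0m : polar Q (D.v 0) (D.v m) = 1 := by simpa using D.vv_one 0
      have hm0 : polar Q (D.v m) (D.v 0) = 1 := by rw [polar_comm]; exact h0m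
      have hself : ∀ i, polar Q (D.v i) (D.v i) = 0 := fun i => by rw [polar_self', D.sing, mul_zero]
      rcases hu with ⟨i, rfl⟩ | hu
      · rw [← D.per i]
        have hi : i % (2 * m) < 2 * m := Nat.mod_lt _ (by omega)
        generalize i % (2 * m) = j at hi ⊢
        rcases eq_or_ne j 0 with rfl | hj0
        · intro c; rw [hself, h0m]; simpa using D.S_zero
        rcases eq_or_ne j m with rfl | hjm
        · intro c; rw [hself, hm0]; simpa using D.S_zero
        intro c
        rw [D.vv_zero hi (by omega) (by omega) (by omega), D.vv_zero hi (by omega) (by omega) (by omega),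
          zero_smul, zero_smul, sub_zero, sub_zero]
        exact hv j hi hj0 hjm c
      · simp only [Set.mem_insert_iff, Set.mem_singleton_iff] at hu
        intro c
        rcases hu with rfl | rfl
        · rw [polar_comm Q D.r, D.rv, polar_comm Q D.r, D.rv, zero_smul, zero_smul, sub_zero, sub_zero]
          have h := hR 2 (Or.inr rfl) c
          rwa [rr, if_pos (by decide)] at h
        · show D.S K (c • (D.r' - polar Q D.r' (D.v m) • D.v 0 - polar Q D.r' (D.v 0) • D.v m))
          rw [polar_comm Q D.r', D.r'v, polar_comm Q D.r', D.r'v, zero_smul, zero_smul, sub_zero, sub_zero]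
          have h := hR 1 (Or.inl rfl) c
          rwa [rr, if_neg (by decide)] at h
    | zero => intro c; simpa using D.S_zero
    | add x y _ _ hx hy =>
      intro c
      convert D.S_add (hx c) (hy c) using 1
      rw [polar_add_left, polar_add_left]
      module
    | smul d x _ hx =>
      intro c
      convert hx (c * d) using 1
      rw [polar_smul_left, polar_smul_left, smul_eq_mul, smul_eq_mul]
      module
  have hleft : ∀ (u : V) (hu : SPair Q (D.v 0) u), rho hu ∈ K := by
    intro u hu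
    obtain ⟨hu', h⟩ := hspan u 1
    have hu2 : SPair Q (D.v 0) (u + (-polar Q u (D.v m)) • D.v 0) :=
      hu.add (SPair.smul ⟨D.sing 0, by rw [polar_self', D.sing, mul_zero]⟩ _)
    rw [rho_congr hu' hu2 rfl (by rw [polar_comm Q u (D.v 0), hu.perp]; module),
      rho_shift hu _ hu2] at h
    exact h
  obtain ⟨hW, -⟩ := D.pow_shift hw ha hr hr' m
  obtain ⟨b, hb, e⟩ := hW 0
  rw [Nat.zero_add] at e
  have hright : ∀ (u : V) (hu : SPair Q (D.v m) u), rho hu ∈ K := by
    intro u hu
    have hu0 : SPair Q (D.v 0) ((w ^ m)⁻¹.1 (b⁻¹ • u)) := ⟨D.sing 0, by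
      rw [← orth_polar (w ^ m).2, e, orth_apply_inv_apply, polar_smul_left, polar_smul_right,
        hu.perp, smul_zero, smul_zero]⟩
    have h1 : w ^ m * rho hu0 * (w ^ m)⁻¹ ∈ K :=
      mul_mem (mul_mem (pow_mem hwK m) (hleft _ hu0)) (inv_mem (pow_mem hwK m))
    have h2 : SPair Q (b • D.v m) (b⁻¹ • u) :=
      ⟨by rw [Q_smul, D.sing, mul_zero],
        by rw [polar_smul_left, polar_smul_right, hu.perp, smul_zero, smul_zero]⟩
    have h3 : SPair Q (D.v m) (b • b⁻¹ • u) := (hu.smul _).smul _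
    rw [rho_conj, rho_congr (hu0.map (w ^ m)) h2 e (orth_apply_inv_apply _ _), rho_vec_smul h2 h3,
      rho_congr h3 hu rfl (by rw [smul_smul, mul_inv_cancel₀ hb, one_smul])] at h1
    exact h1
  refine EG_le_of_hasPair ⟨hleft, hright⟩ ⟨D.sing _, D.sing _, by simpa using D.vv_one 0⟩
    (fun c => ⟨D.v 1 + c • D.v (m + 1), ?_, ?_⟩) hrad
  · rw [mem_core, polar_add_right, polar_add_right, polar_smul_right, polar_smul_right]
    constructor <;>
      simp [D.vv_zero (show (0 : ℕ) < 2 * m by omega) (show (1 : ℕ) < 2 * m by omega) (by omega) (by omega),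
        D.vv_zero (show (0 : ℕ) < 2 * m by omega) (show m + 1 < 2 * m by omega) (by omega) (by omega),
        D.vv_zero (show m < 2 * m by omega) (show (1 : ℕ) < 2 * m by omega) (by omega) (by omega),
        D.vv_zero (show m < 2 * m by omega) (show m + 1 < 2 * m by omega) (by omega) (by omega)]
  · rw [Q_add, Q_smul, D.sing, D.sing, polar_smul_right, Nat.add_comm m 1, D.vv_one]
    simp

theorem two_generated [Fintype F] (D : Data Q m) (hm : 3 ≤ m) (hrad : ∀ x, Q x = 0 → x ≠ 0 → ∃ y, polar Q x y ≠ 0) :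
    ∃ A B : EG Q, Subgroup.closure ({A, B} : Set (EG Q)) = ⊤ := by
  obtain ⟨lam, hl, hgen⟩ := exists_trace (F := F)
  have hq := D.quad4 (i := 1) (j := 2) (show 1 < m by omega) (show 2 < m by omega) (by decide)
  obtain ⟨y, hyE, hy1, hy2, hy3, hy4, hyfix⟩ := exists_y hq lam
  obtain ⟨w, hwE, a, ha, hw, hr, hr'⟩ := D.exists_w (by omega)
  set x := rho D.r_SPair with hx
  have hy0 : y.1 (D.v 0) = D.v 0 := hyfix _
    (D.vv_zero (by omega) (by omega) (by omega) (by omega))
    (D.vv_zero (by omega) (by omega) (by omega) (by omega))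
    (D.vv_zero (by omega) (by omega) (by omega) (by omega))
    (D.vv_zero (by omega) (by omega) (by omega) (by omega))
  have hyr : y.1 D.r = D.r := hyfix _ (D.rv _) (D.rv _) (D.rv _) (D.rv _)
  have hcomm : Commute y x := by
    have := rho_conj y D.r_SPair
    rw [rho_congr (D.r_SPair.map y) D.r_SPair hy0 hyr] at this
    exact mul_inv_eq_iff_eq_mul.1 this
  set N := Fintype.card F ^ 2 - 1
  have hpow : ∀ (k : ℕ) (v : V), (y ^ k).1 v = ((y.1 : V →ₗ[F] V) ^ k) v := by
    intro k
    induction k with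
    | zero => intro v; rfl
    | succ k ih =>
      intro v
      rw [pow_succ', pow_succ', orth_mul_apply, ih, Module.End.mul_apply]
      rfl
  have hyN : y ^ N = 1 := by
    refine orth_ext fun v => ?_
    show (y ^ N).1 v = v
    rw [hpow]
    induction D.span v using Submodule.span_induction with
    | mem u hu =>
      have hfix : y.1 u = u → ((y.1 : V →ₗ[F] V) ^ N) u = u := fun h => by
        rw [Module.End.pow_apply]
        exact Function.iterate_fixed h N
      rcases hu with ⟨i, rfl⟩ | hu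
      · rw [← D.per i] at hfix ⊢
        have hi : i % (2 * m) < 2 * m := Nat.mod_lt _ (by omega)
        generalize i % (2 * m) = j at hi hfix ⊢
        by_cases h : j = 1 ∨ j = 2 ∨ j = 1 + m ∨ j = 2 + m
        · refine pow_fix hl _ _ ?_
          show y.1 (y.1 _) = lam • y.1 _ - _
          rcases h with rfl | rfl | rfl | rfl
          · rw [hy1, hy2]
          · rw [hy2, map_sub, map_smul, hy2, hy1]
          · rw [hy3, map_add, map_smul, hy3, hy4]; abel
          · rw [hy4, map_neg, hy3]; module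
        · exact hfix (hyfix _ (D.vv_zero (by omega) hi (by omega) (by omega))
            (D.vv_zero (by omega) hi (by omega) (by omega))
            (D.vv_zero (by omega) hi (by omega) (by omega))
            (D.vv_zero (by omega) hi (by omega) (by omega)))
      · simp only [Set.mem_insert_iff, Set.mem_singleton_iff] at hu
        rcases hu with rfl | rfl
        · exact hfix hyr
        · exact hfix (hyfix D.r' (D.r'v _) (D.r'v _) (D.r'v _) (D.r'v _))
    | zero => exact map_zero _
    | add a b _ _ ha hb => rw [map_add, ha, hb]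
    | smul c a _ ha => rw [map_smul, ha]
  have hxpow : ∀ k : ℕ, x ^ k = rho (D.r_SPair.smul (k : F)) := by
    intro k
    induction k with
    | zero =>
      rw [pow_zero, rho_congr _ (SPair.zero (D.sing 0)) rfl (by rw [Nat.cast_zero, zero_smul]), rho_zero]
    | succ k ih =>
      rw [pow_succ, ih, hx, rho_mul]
      exact rho_congr _ _ rfl (by push_cast; module)
  have hxN : x ^ N = x⁻¹ := by
    rw [hxpow, hx, rho_inv]
    refine rho_congr _ _ rfl ?_
    rw [Nat.cast_sub (Nat.one_le_pow _ _ Fintype.card_pos), Nat.cast_pow, FiniteField.cast_card_eq_zero]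
    simp
  have hA0 : y * x ∈ EG Q := mul_mem hyE (rho_mem _)
  obtain ⟨A, hAv⟩ : ∃ A : EG Q, (A : orth Q) = y * x := ⟨⟨y * x, hA0⟩, rfl⟩
  obtain ⟨B, hBv⟩ : ∃ B : EG Q, (B : orth Q) = w := ⟨⟨w, hwE⟩, rfl⟩
  refine ⟨A, B, ?_⟩
  set S' : Subgroup (EG Q) := Subgroup.closure ({A, B} : Set (EG Q)) with hS'
  have hA : y * x ∈ S'.map (EG Q).subtype :=
    ⟨A, Subgroup.subset_closure (Set.mem_insert _ _), hAv⟩
  have hwK : w ∈ S'.map (EG Q).subtype :=
    ⟨B, Subgroup.subset_closure (Set.mem_insert_of_mem _ rfl), hBv⟩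
  have hxK : x ∈ S'.map (EG Q).subtype := by
    have h1 := pow_mem hA N
    rw [hcomm.mul_pow, hyN, one_mul, hxN] at h1
    exact inv_mem_iff.1 h1
  have hyK : y ∈ S'.map (EG Q).subtype := by
    have := mul_mem hA (inv_mem hxK)
    rwa [mul_inv_cancel_right] at this
  have htop := D.top hm hrad hgen hy1 hy2 hy3 hy4 hyfix hxK hyK hwK hw ha hr hr'
  rw [eq_top_iff]
  intro g _
  obtain ⟨g', hg', e⟩ := htop g.2
  rw [← (Subtype.ext e : g' = g)]
  exact hg'

end Data

end Cfsg.Agent.Lib.OmegaTwoGen49
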