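import Cfsg.Agent.Lib.OrthOmega.Simple
import Cfsg.Agent.Lib.OmegaTwoGen49.Main

/-!
The data for the three coordinate forms, and two-generation of their `POmega`.
-/

set_option autoImplicit false
set_option linter.unusedSectionVars false

namespace Cfsg.Agent.Lib.OmegaTwoGen49

open Module QuadraticMap Cfsg.Agent.Lib.Forms Cfsg.Agent.Lib.OrthOmega Cfsg.Agent.Lib.OrthStd

variable {F : Type*} [Field F]

/-- The coordinate of the `k`-th cyclic vector. -/
def idx {p m : ℕ} (hm : 0 < m) (hp : m ≤ p) (k : ℕ) : Fin p ⊕ Fin p :=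
  if h : k % (2 * m) < m then Sum.inl ⟨k % (2 * m), by omega⟩
  else Sum.inr ⟨k % (2 * m) - m, by have := Nat.mod_lt k (show 0 < 2 * m by omega); omega⟩

/-- The `k`-th cyclic vector of the first `m` pairs. -/
def pv {p m : ℕ} (hm : 0 < m) (hp : m ≤ p) (k : ℕ) : Fin p ⊕ Fin p → F :=
  Pi.single (idx hm hp k) 1

theorem idx_per {p m : ℕ} (hm : 0 < m) (hp : m ≤ p) (k : ℕ) :
    idx hm hp (k % (2 * m)) = idx hm hp k := by
  simp only [idx, Nat.mod_mod]

theorem qPlus_single {p : ℕ} (i : Fin p ⊕ Fin p) : qPlus (F := F) p (Pi.single i 1) = 0 := by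
  rw [qPlus_apply]
  refine Finset.sum_eq_zero fun j _ => ?_
  rcases i with i | i <;> simp

theorem polar_single {p : ℕ} (i j : Fin p ⊕ Fin p) :
    polar (qPlus (F := F) p) (Pi.single i 1) (Pi.single j 1) = if Sum.swap i = j then 1 else 0 := by
  rw [qPlus_polar]
  rcases i with i | i <;> rcases j with j | j <;>
    simp [Finset.sum_add_distrib, Pi.single_apply, Sum.swap, eq_comm]

theorem pv_gram {p m : ℕ} (hm : 0 < m) (hp : m ≤ p) (i j : ℕ) :
    polar (qPlus (F := F) p) (pv hm hp i) (pv hm hp j) =
      if (i + m) % (2 * m) = j % (2 * m) then 1 else 0 := by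
  rw [pv, pv, polar_single]
  refine if_congr ?_ rfl rfl
  have hi := Nat.mod_lt i (show 0 < 2 * m by omega)
  have hj := Nat.mod_lt j (show 0 < 2 * m by omega)
  have e : (i + m) % (2 * m) = if i % (2 * m) < m then i % (2 * m) + m else i % (2 * m) - m := by
    rw [← Nat.mod_add_mod]
    split_ifs with h
    · exact Nat.mod_eq_of_lt (by omega)
    · rw [Nat.mod_eq_sub_mod (by omega), Nat.mod_eq_of_lt (by omega)]; omega
  rw [e]
  unfold idx
  split_ifs <;> simp only [Sum.swap_inl, Sum.swap_inr, Sum.inl.injEq, Sum.inr.injEq, Fin.ext_iff,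
    reduceCtorEq, false_iff] <;> omega

/-- The last pair for the plus form, the coordinate vectors otherwise, lie in the span. -/
theorem single_inl_range {p m : ℕ} (hm : 0 < m) (hp : m ≤ p) {i : Fin p} (hi : i.val < m) :
    (Pi.single (Sum.inl i) 1 : Fin p ⊕ Fin p → F) = pv hm hp i.val := by
  rw [pv, idx, dif_pos (by rw [Nat.mod_eq_of_lt (by omega)]; exact hi)]
  congr 2
  exact Fin.ext (Nat.mod_eq_of_lt (by omega)).symm

theorem single_inr_range {p m : ℕ} (hm : 0 < m) (hp : m ≤ p) {i : Fin p} (hi : i.val < m) :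
    (Pi.single (Sum.inr i) 1 : Fin p ⊕ Fin p → F) = pv hm hp (m + i.val) := by
  have e : (m + i.val) % (2 * m) = m + i.val := Nat.mod_eq_of_lt (by omega)
  rw [pv, idx, dif_neg (by rw [e]; omega)]
  congr 2
  exact Fin.ext (show i.val = (m + i.val) % (2 * m) - m by omega)

theorem mem_span_of_singles {ι : Type} [Fintype ι] [DecidableEq ι] {S : Submodule F (ι → F)}
    (h : ∀ i, (Pi.single i 1 : ι → F) ∈ S) (x : ι → F) : x ∈ S := by
  rw [show x = ∑ i, x i • (Pi.single i 1 : ι → F) by
    funext j; simp [Finset.sum_apply, Pi.single_apply]]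
  exact Submodule.sum_mem _ fun i _ => Submodule.smul_mem _ _ (h i)

/-- Plus form. -/
noncomputable def dataPlus (M : ℕ) (hM : 4 ≤ M) : Data (qPlus (F := F) M) (M - 1) :=
  let l : Fin M := ⟨M - 1, by omega⟩
  have hl : ∀ i : ℕ, ∀ b : Fin M ⊕ Fin M, b = Sum.inl l ∨ b = Sum.inr l →
      polar (qPlus (F := F) M) (pv (by omega) (by omega : M - 1 ≤ M) i) (Pi.single b 1) = 0 := by
    intro i b hb
    rw [pv, polar_single, if_neg]
    unfold idx
    have := Nat.mod_lt i (show 0 < 2 * (M - 1) by omega)
    rcases hb with rfl | rfl <;> split_ifs <;> simp [Fin.ext_iff, l] <;> omega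
  have hrs : polar (qPlus (F := F) M) (Pi.single (Sum.inl l) 1 - Pi.single (Sum.inr l) 1)
      (Pi.single (Sum.inl l) 1) = -1 := by
    rw [polar_sub_left, polar_single, polar_single]; simp
  have hss : qPlus (F := F) M (Pi.single (Sum.inl l) 1 - Pi.single (Sum.inr l) 1) = -1 := by
    rw [sub_eq_add_neg, Q_add, polar_neg_right, QuadraticMap.map_neg, qPlus_single, qPlus_single,
      polar_single]; simp
  have href : Pi.single (Sum.inl l) 1 -
      (polar (qPlus (F := F) M) (Pi.single (Sum.inl l) 1 - Pi.single (Sum.inr l) 1)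
        (Pi.single (Sum.inl l) 1) / qPlus (F := F) M (Pi.single (Sum.inl l) 1 - Pi.single (Sum.inr l) 1)) •
        (Pi.single (Sum.inl l) 1 - Pi.single (Sum.inr l) 1) =
      (Pi.single (Sum.inr l) 1 : Fin M ⊕ Fin M → F) := by
    rw [hrs, hss, div_self (neg_ne_zero.2 one_ne_zero), one_smul, sub_sub_cancel]
  { v := pv (by omega) (by omega : M - 1 ≤ M)
    r := Pi.single (Sum.inl l) 1
    s := Pi.single (Sum.inl l) 1 - Pi.single (Sum.inr l) 1
    per := fun k => by simp only [pv, idx_per]
    sing := fun k => qPlus_single _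
    gram := pv_gram _ _
    rv := fun i => hl i _ (Or.inl rfl)
    sv := fun i => by rw [polar_sub_right, hl i _ (Or.inl rfl), hl i _ (Or.inr rfl), sub_zero]
    hs := by rw [hss]; exact neg_ne_zero.2 one_ne_zero
    nonorth := Or.inl (by rw [href, polar_single]; simp)
    span := mem_span_of_singles fun b => Submodule.subset_span (by
      rw [href]
      rcases b with i | i
      · by_cases hi : i.val < M - 1
        · exact Or.inl ⟨i.val, (single_inl_range _ _ hi).symm⟩
        · exact Or.inr (Or.inl (by rw [show i = l from Fin.ext (show i.val = M - 1 by omega)]))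
      · by_cases hi : i.val < M - 1
        · exact Or.inl ⟨M - 1 + i.val, (single_inr_range _ _ hi).symm⟩
        · refine Or.inr (Or.inr ?_)
          rw [show i = l from Fin.ext (show i.val = M - 1 by omega)]; rfl) }

/-- The pairs inside the odd form. -/
def embOdd (m : ℕ) (x : Fin m ⊕ Fin m → F) : Unit ⊕ (Fin m ⊕ Fin m) → F := Sum.elim 0 x

theorem polar_qOddC (m : ℕ) (u v : Unit ⊕ (Fin m ⊕ Fin m) → F) :
    polar (qOddC m F) u v = polar (qPlus (F := F) m) (fun j => u (Sum.inr j)) (fun j => v (Sum.inr j))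
      + 2 * u (Sum.inl ()) * v (Sum.inl ()) := by
  simp only [polar, ← quadFormOdd_eq, ← quadFormPlus_eq, Cfsg.quadFormOdd, Cfsg.quadFormPlus,
    Pi.add_apply]
  ring

/-- Odd form. -/
noncomputable def dataOdd (m : ℕ) (hm : 3 ≤ m) (h2 : (2 : F) ≠ 0) : Data (qOddC m F) m :=
  let g : Unit ⊕ (Fin m ⊕ Fin m) → F := Pi.single (Sum.inl ()) 1
  have hgv : ∀ i, polar (qOddC m F) (embOdd m (pv (by omega) (le_refl m) i)) g = 0 := fun i => by
    rw [polar_qOddC]; simp [embOdd, g, qPlus_polar]
  have hgg : polar (qOddC m F) g g = 2 := by rw [polar_qOddC]; simp [g, qPlus_apply]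
  have hQg : qOddC m F g = 1 := by rw [← quadFormOdd_eq]; simp [Cfsg.quadFormOdd, g]
  have href : g - (polar (qOddC m F) g g / qOddC m F g) • g = -g := by
    rw [hgg, hQg, div_one]; module
  { v := fun k => embOdd m (pv (by omega) (le_refl m) k)
    r := g
    s := g
    per := fun k => by simp only [pv, idx_per]
    sing := fun k => by
      have h := qPlus_single (F := F) (idx (show 0 < m by omega) (le_refl m) k)
      rw [← quadFormPlus_eq] at h
      rw [← quadFormOdd_eq]
      simp only [Cfsg.quadFormOdd, Cfsg.quadFormPlus, embOdd, Sum.elim_inl, Sum.elim_inr, pv] at h ⊢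
      rw [h]; simp
    gram := fun i j => by
      rw [polar_qOddC]
      simp only [embOdd, Sum.elim_inr, Sum.elim_inl, Pi.zero_apply, mul_zero, add_zero]
      exact pv_gram _ _ i j
    rv := hgv
    sv := hgv
    hs := by rw [hQg]; exact one_ne_zero
    nonorth := Or.inr (by rw [hgg]; exact h2)
    span := mem_span_of_singles fun b => Submodule.subset_span (by
      rcases b with ⟨⟩ | i | i
      · exact Or.inr (Or.inl rfl)
      · refine Or.inl ⟨i.val, ?_⟩
        funext c
        simp only [← single_inl_range (F := F) (show 0 < m by omega) (le_refl m) i.isLt]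
        rcases c with ⟨⟩ | c <;> simp [embOdd, Pi.single_apply]
      · refine Or.inl ⟨m + i.val, ?_⟩
        funext c
        simp only [← single_inr_range (F := F) (show 0 < m by omega) (le_refl m) i.isLt]
        rcases c with ⟨⟩ | c <;> simp [embOdd, Pi.single_apply]) }

theorem polar_qMinus (m : ℕ) (a b : F) (u v : (Fin m ⊕ Fin m) ⊕ Fin 2 → F) :
    polar (qMinus m a b) u v =
      polar (qPlus (F := F) m) (fun j => u (Sum.inl j)) (fun j => v (Sum.inl j))
      + polar (qBin a b) (fun j => u (Sum.inr j)) (fun j => v (Sum.inr j)) := by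
  simp only [polar, qMinus_apply, qBin_apply, ← quadFormPlus_eq, Cfsg.quadFormMinus, Cfsg.quadFormPlus,
    Pi.add_apply]
  ring

/-- Minus form. -/
noncomputable def dataMinus (k : ℕ) (hk : 3 ≤ k) {a b : F}
    (hab : ∀ z₁ z₂ : F, z₁ ^ 2 + a * z₁ * z₂ + b * z₂ ^ 2 = 0 → z₁ = 0 ∧ z₂ = 0) (t : F)
    (ht : 2 * t + a ≠ 0) (hnon : (2 : F) ≠ 0 ∨ t = 0) : Data (qMinus k a b) k :=
  let R : (Fin 2 → F) → (Fin k ⊕ Fin k) ⊕ Fin 2 → F := fun z => Sum.elim 0 z
  let r := R ![t, 1]
  let s := R ![1, 0]
  have hRv : ∀ i z, polar (qMinus k a b) (Sum.elim (pv (show 0 < k by omega) (le_refl k) i) 0) (R z) = 0 :=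
    fun i z => by rw [polar_qMinus]; simp [R, polar, qPlus_apply, qBin_apply]
  have hRR : ∀ z z', polar (qMinus k a b) (R z) (R z') = polar (qBin a b) z z' := fun z z' => by
    rw [polar_qMinus]; simp [R, qPlus_apply]
  have hQR : ∀ z, qMinus k a b (R z) = qBin a b z := fun z => by
    rw [qMinus_apply, qBin_apply]; simp [Cfsg.quadFormMinus, R]
  have hrs : polar (qMinus k a b) s r = 2 * t + a := by
    rw [hRR]; simp [polar, qBin_apply]; ring
  have hss : qMinus k a b s = 1 := by rw [hQR]; simp [qBin_apply]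
  have href : r - (polar (qMinus k a b) s r / qMinus k a b s) • s = R ![-t - a, 1] := by
    rw [hrs, hss, div_one]
    funext c
    rcases c with c | c
    · simp [r, s, R]
    · fin_cases c <;> simp [r, s, R] <;> ring
  { v := fun i => Sum.elim (pv (show 0 < k by omega) (le_refl k) i) 0
    r := r
    s := s
    per := fun i => by simp only [pv, idx_per]
    sing := fun i => by
      have h := qPlus_single (F := F) (idx (show 0 < k by omega) (le_refl k) i)
      rw [← quadFormPlus_eq] at h
      rw [qMinus_apply]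
      simp only [Cfsg.quadFormMinus, Cfsg.quadFormPlus, Sum.elim_inl, Sum.elim_inr, pv] at h ⊢
      rw [h]; simp
    gram := fun i j => by
      rw [polar_qMinus]
      simp only [Sum.elim_inl, Sum.elim_inr]
      rw [pv_gram, show polar (qBin a b) (fun j : Fin 2 => (0 : Fin 2 → F) j) (fun j : Fin 2 => (0 : Fin 2 → F) j) = 0 by
        simp [polar, qBin_apply], add_zero]
    rv := fun i => hRv i _
    sv := fun i => hRv i _
    hs := by rw [hss]; exact one_ne_zero
    nonorth := by
      rcases hnon with h2 | rfl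
      · refine Or.inr ?_
        rw [polar_self']
        refine mul_ne_zero h2 ?_
        rw [hQR, qBin_apply]
        intro h
        simpa using (hab t 1 (by simpa using h)).2
      · by_cases h2 : (2 : F) = 0
        · refine Or.inl ?_
          rw [href, hRR]
          simp only [polar, qBin_apply]
          simp
          intro h
          apply ht
          have : a * a = 0 := by linear_combination -h + b * h2
          rw [mul_self_eq_zero] at this
          rw [this]; simp
        · refine Or.inr ?_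
          rw [polar_self']
          refine mul_ne_zero h2 ?_
          rw [hQR, qBin_apply]
          intro h
          simpa using (hab 0 1 (by simpa using h)).2
    span := mem_span_of_singles fun c => by
      rw [href]
      rcases c with (i | i) | c
      · refine Submodule.subset_span (Or.inl ⟨i.val, ?_⟩)
        funext e
        simp only [← single_inl_range (F := F) (show 0 < k by omega) (le_refl k) i.isLt]
        rcases e with e | e <;> simp [Pi.single_apply]
      · refine Submodule.subset_span (Or.inl ⟨k + i.val, ?_⟩)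
        funext e
        simp only [← single_inr_range (F := F) (show 0 < k by omega) (le_refl k) i.isLt]
        rcases e with e | e <;> simp [Pi.single_apply]
      · have h0 : (Pi.single (Sum.inr 0) 1 : (Fin k ⊕ Fin k) ⊕ Fin 2 → F) =
            (2 * t + a)⁻¹ • (r - R ![-t - a, 1]) := by
          funext e
          rcases e with e | e
          · simp [r, R]
          · fin_cases e
            · simp [r, R]
              rw [show t - (-t - a) = 2 * t + a by ring, inv_mul_cancel₀ ht]
            · simp [r, R]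
        have h1 : (Pi.single (Sum.inr 1) 1 : (Fin k ⊕ Fin k) ⊕ Fin 2 → F) =
            r - t • Pi.single (Sum.inr 0) 1 := by
          funext e
          rcases e with e | e
          · simp [r, R]
          · fin_cases e <;> simp [r, R]
        have hm0 : (Pi.single (Sum.inr 0) 1 : (Fin k ⊕ Fin k) ⊕ Fin 2 → F) ∈ Submodule.span F
            (Set.range (fun i => Sum.elim (pv (show 0 < k by omega) (le_refl k) i) 0) ∪ {r, R ![-t - a, 1]}) := by
          rw [h0]
          exact Submodule.smul_mem _ _ (Submodule.sub_mem _ (Submodule.subset_span (Or.inr (Or.inl rfl)))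
            (Submodule.subset_span (Or.inr (Or.inr rfl))))
        fin_cases c
        · exact hm0
        · show Pi.single (Sum.inr 1) 1 ∈ _
          rw [h1]
          exact Submodule.sub_mem _ (Submodule.subset_span (Or.inr (Or.inl rfl)))
            (Submodule.smul_mem _ _ hm0) }

theorem nonempty_of_data [Fintype F] {ι : Type} [Fintype ι] [DecidableEq ι]
    {Q : QuadraticForm F (ι → F)} (hQ : Nondeg Q) {m : ℕ} (hm : 3 ≤ m) (D : Data Q m)
    (h5 : 5 ≤ finrank F (ι → F)) {f : (ι → F) → F} (hf : ∀ v, f v = Q v) :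
    ∃ a b : Cfsg.POmega F f, Subgroup.closure ({a, b} : Set (Cfsg.POmega F f)) = ⊤ := by
  obtain ⟨A, B, hAB⟩ := D.two_generated hm (fun x _ hx => by
    by_contra hcon
    push Not at hcon
    exact hx (hQ x hcon))
  let e := (pOmegaEquiv Q hQ h5 hf).symm.toMonoidHom.comp (QuotientGroup.mk' (Subgroup.center (EG Q)))
  have hsur : Function.Surjective e :=
    (pOmegaEquiv Q hQ h5 hf).symm.surjective.comp (QuotientGroup.mk'_surjective _)
  refine ⟨e A, e B, ?_⟩
  have h1 := congrArg (Subgroup.map e) hAB
  rw [MonoidHom.map_closure, Set.image_pair, Subgroup.map_top_of_surjective _ hsur] at h1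
  exact h1

theorem plus_two_generated [Fintype F] (M : ℕ) (hM : 4 ≤ M) :
    ∃ a b : Cfsg.POmega F (Cfsg.quadFormPlus M F),
      Subgroup.closure ({a, b} : Set (Cfsg.POmega F (Cfsg.quadFormPlus M F))) = ⊤ :=
  nonempty_of_data (qPlus_nondeg M) (by omega) (dataPlus M hM) (by rw [finrank_fun]; simp; omega)
    (quadFormPlus_eq M)

theorem odd_two_generated [Fintype F] (hodd : Odd (Fintype.card F)) (m : ℕ) (hm : 3 ≤ m) :
    ∃ a b : Cfsg.POmega F (Cfsg.quadFormOdd m F),
      Subgroup.closure ({a, b} : Set (Cfsg.POmega F (Cfsg.quadFormOdd m F))) = ⊤ :=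
  nonempty_of_data (qOddC_nondeg m (two_ne_zero_of_odd hodd)) hm (dataOdd m hm (two_ne_zero_of_odd hodd))
    (by rw [finrank_fun]; simp; omega) (quadFormOdd_eq m)

theorem minus_two_generated [Fintype F] (k : ℕ) (hk : 3 ≤ k) {a b : F}
    (hab : ∀ z₁ z₂ : F, z₁ ^ 2 + a * z₁ * z₂ + b * z₂ ^ 2 = 0 → z₁ = 0 ∧ z₂ = 0) :
    ∃ g h : Cfsg.POmega F (Cfsg.quadFormMinus k F a b),
      Subgroup.closure ({g, h} : Set (Cfsg.POmega F (Cfsg.quadFormMinus k F a b))) = ⊤ := by
  classical
  obtain ⟨t, ht, hnon⟩ : ∃ t : F, 2 * t + a ≠ 0 ∧ ((2 : F) ≠ 0 ∨ t = 0) := by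
    by_cases ha : a = 0
    swap
    · exact ⟨0, by simpa using ha, Or.inr rfl⟩
    by_cases h2 : (2 : F) = 0
    · exfalso
      have hc : ringChar F = 2 := CharP.ringChar_of_prime_eq_zero Nat.prime_two (by exact_mod_cast h2)
      obtain ⟨z, hz⟩ := FiniteField.isSquare_of_char_two hc b
      have h1 := hab z 1 (by rw [ha, hz]; linear_combination (z * z) * h2)
      exact one_ne_zero h1.2
    · exact ⟨1, by rw [ha]; simpa using h2, Or.inl h2⟩
  exact nonempty_of_data (qMinus_nondeg k hab) hk (dataMinus k hk hab t ht hnon)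
    (by rw [finrank_fun]; simp; omega) (fun v => (qMinus_apply k a b v).symm)

end Cfsg.Agent.Lib.OmegaTwoGen49
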